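import Mathlib
import Cfsg.Prelude.Def_GeometricClasses
import Cfsg.Agent.Lib.GeomClasses.MaxLinearSubspace
import Cfsg.Agent.Lib.GeomClasses.MaxLinearSubfield
import Cfsg.Agent.Lib.GeomClasses.MaxLinearUnit
import Cfsg.Agent.Lib.GeomClasses.OrthSimilarity
import Cfsg.Agent.Lib.GeomClasses.DecompMax.Main
import Cfsg.Agent.Lib.ExtFieldMax.Main
import Cfsg.Agent.Lib.NineLinear.Tensor

/-!
All geometric clauses in dimension nine, given the clause of the symplectic-type normaliser.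
-/

set_option autoImplicit false

namespace CfsgLib.NineLinear

open CfsgLib.GeomClasses

/-- The clauses, given the symplectic-type one. -/
theorem clauses_of_symplectic_type {F : Type*} [Field F] [Fintype F]
    (h6 : ((∃ p : ℕ, p.Prime ∧ Fintype.card F = p ∧ (p % 3 = 1)) → ∀ R : Subgroup (Matrix.GeneralLinearGroup (Fin 9) F), Cfsg.Geo.IsLinearSymplecticTypeData 3 R → Cfsg.Geo.IsMaximalIn (Cfsg.Geo.specialLinear (Fin 9) F) (Cfsg.Geo.subgroupNormalizer R ⊓ Cfsg.Geo.specialLinear (Fin 9) F))) :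
    (∀ W : Submodule F (Fin 9 → F), W ≠ ⊥ → W ≠ ⊤ → Cfsg.Geo.IsMaximalIn (Cfsg.Geo.specialLinear (Fin 9) F) (Cfsg.Geo.subspaceStabilizer W ⊓ Cfsg.Geo.specialLinear (Fin 9) F)) ∧
    (5 ≤ Fintype.card F → ∀ D : Fin 9 → Submodule F (Fin 9 → F), Cfsg.Geo.IsMDecomposition 1 D → Cfsg.Geo.IsMaximalIn (Cfsg.Geo.specialLinear (Fin 9) F) (Cfsg.Geo.decompositionStabilizer D ⊓ Cfsg.Geo.specialLinear (Fin 9) F)) ∧
    (∀ D : Fin 3 → Submodule F (Fin 9 → F), Cfsg.Geo.IsMDecomposition 3 D → Cfsg.Geo.IsMaximalIn (Cfsg.Geo.specialLinear (Fin 9) F) (Cfsg.Geo.decompositionStabilizer D ⊓ Cfsg.Geo.specialLinear (Fin 9) F)) ∧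
    (∀ K : Subalgebra F (Matrix (Fin 9) (Fin 9) F), Cfsg.Geo.IsFieldSubalgebra 3 K → Cfsg.Geo.IsMaximalIn (Cfsg.Geo.specialLinear (Fin 9) F) (Cfsg.Geo.subalgebraNormalizer K ⊓ Cfsg.Geo.specialLinear (Fin 9) F)) ∧
    (∀ (F₀ : Subfield F) (r : ℕ) (P : Matrix.GeneralLinearGroup (Fin 9) F), r.Prime → Fintype.card F = Nat.card F₀ ^ r → Cfsg.Geo.IsMaximalIn (Cfsg.Geo.specialLinear (Fin 9) F) (Cfsg.Geo.subfieldSubgroup F₀ P ⊓ Cfsg.Geo.specialLinear (Fin 9) F)) ∧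
    ((∃ p : ℕ, p.Prime ∧ Fintype.card F = p ∧ (p % 3 = 1)) → ∀ R : Subgroup (Matrix.GeneralLinearGroup (Fin 9) F), Cfsg.Geo.IsLinearSymplecticTypeData 3 R → Cfsg.Geo.IsMaximalIn (Cfsg.Geo.specialLinear (Fin 9) F) (Cfsg.Geo.subgroupNormalizer R ⊓ Cfsg.Geo.specialLinear (Fin 9) F)) ∧
    (∀ (e : Fin 9 ≃ (Fin 2 → Fin 3)) (P : Matrix.GeneralLinearGroup (Fin 9) F), Cfsg.Geo.IsMaximalIn (Cfsg.Geo.specialLinear (Fin 9) F) (Cfsg.Geo.tensorWreathSubgroup 3 2 e P ⊓ Cfsg.Geo.specialLinear (Fin 9) F)) ∧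
    (Odd (Fintype.card F) → ∀ Q : (Fin 9 → F) → F, Cfsg.Geo.IsNondegenerateQuadraticForm Q → Cfsg.Geo.IsMaximalIn (Cfsg.Geo.specialLinear (Fin 9) F) (Cfsg.Geo.quadSimilarityGroup Q ⊓ Cfsg.Geo.specialLinear (Fin 9) F)) ∧
    (∀ (σ : F ≃+* F) (f : (Fin 9 → F) → (Fin 9 → F) → F), Cfsg.Geo.IsUnitaryForm σ f → Cfsg.Geo.IsMaximalIn (Cfsg.Geo.specialLinear (Fin 9) F) (Cfsg.Geo.similarityGroup f ⊓ Cfsg.Geo.specialLinear (Fin 9) F)) := by
  refine ⟨?_, ?_, ?_, ?_, ?_, ?_, ?_, ?_, ?_⟩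
  · exact fun W h0 h1 => MaxLinear.SubspaceCase.maximal_subspace _ W h0 h1
  · intro hq D hD
    exact DecompMax.decompStab_isMaximal (by omega) hD (by omega) (by omega)
  · intro D hD
    exact DecompMax.decompStab_isMaximal (by omega) hD (by omega) (by omega)
  · intro K hK
    exact CfsgLib.ExtFieldMax.isMaximalIn_specialLinear (r := 3) (by norm_num) (by norm_num) hK
  · exact fun F₀ r P hr hcard => MaxLinear.SubfieldCase.maximal_subfield _ (by omega) F₀ r hr hcard P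
  · exact h6
  · exact fun e P => CfsgLib.NineLinear.maximal_tensor_wreath le_rfl le_rfl e P
  · intro hodd Q hQ
    have hq := OrthTools.quadOf_nondegenerate hQ
    have h2 : (2 : F) ≠ 0 := by
      refine Ring.two_ne_zero (R := F) fun h => ?_
      have := FiniteField.even_card_of_char_two h
      have := Nat.odd_iff.1 hodd
      omega
    exact OrthSimilarity.maximal hq (by simp) h2
  · exact fun σ f hf => MaxLinear.UnitCase.maximal_unitary _ (by omega) σ f hf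


end CfsgLib.NineLinear
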